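import Cfsg.Agent.H653.Sieve.Check

/-!
# The arithmetic of the row Ly (helper714)

The odd divisors `d` of `|Ly|` with `d ^ 2 < |Ly|` and the residues of the degrees modulo 67, 37, 31, 11, and the pairs
with the parities.
-/

set_option autoImplicit false
set_option maxRecDepth 100000

namespace Cfsg.Agent.H714.Ly.Arith

open Cfsg.Agent.H653.Sieve

def N : ℕ := 51765179004000000

def fac : List (ℕ × ℕ) := [(67, 1), (37, 1), (31, 1), (11, 1), (7, 1), (5, 6), (3, 7)]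

/-- the residues -/
def ok (d : ℕ) : Bool :=
  (Nat.beq (d % 67) 0 || Nat.beq (d % 67) 1 || Nat.beq (d % 67) 66) &&
  (Nat.beq (d % 37) 0 || Nat.beq (d % 37) 1 || Nat.beq (d % 37) 36) &&
  (Nat.beq (d % 31) 0 || Nat.beq (d % 31) 1 || Nat.beq (d % 31) 30) &&
  (Nat.beq (d % 11) 0 || Nat.beq (d % 11) 1 || Nat.beq (d % 11) 2 || Nat.beq (d % 11) 5 || Nat.beq (d % 11) 6 ||
    Nat.beq (d % 11) 9 || Nat.beq (d % 11) 10)

def L : List ℕ := [28675, 105525, 156177, 230547, 309875, 417879, 537943, 691641, 799645, 845339, 1152735, 1227105,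
  1921225, 2336625, 2536017, 2689715, 3871125, 4226695, 4841487, 5763675, 5917373, 6224769, 7608051, 9253035, 9606125,
  10374615, 12680085, 14524461, 15059925, 17752119, 21133475, 22824153, 24207435, 29586865, 31123845, 38040255,
  38734375, 40345725, 48030625, 51873075, 52994655, 53256357, 53765625, 56022921, 59637303, 59973375, 63400425,
  68472459, 77307615, 86455125, 88760595, 103640625, 105667375, 114120765, 121037175, 130720149, 147934325, 153388125,
  159769071, 168068763, 175246875, 190201275, 201728625, 205417377, 217866915]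

theorem chk : allDiv N (fun d => bif Nat.ble d 1 then true else bif ok d then L.any (Nat.beq d) else true) fac 1 = true := by
  decide +kernel

/-- the residues of the odd values -/
def o0 (a : ℕ) : Bool := !Nat.beq a 0

/-- the residues of the odd values for 11 -/
def o11 (a : ℕ) : Bool := Nat.beq a 1 || Nat.beq a 5 || Nat.beq a 6 || Nat.beq a 10

/-- the parities -/
def par (b c : ℕ) : Bool :=
  (o0 (b % 67) != o0 (c % 67)) && (o0 (b % 37) != o0 (c % 37)) && (o0 (b % 31) != o0 (c % 31)) &&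
  (o11 (b % 11) != o11 (c % 11))

def v67 : List (ℕ × ℤ) := [(0, 0), (1, 1), (66, -1)]
def v37 : List (ℕ × ℤ) := [(0, 0), (1, 1), (36, -1)]
def v31 : List (ℕ × ℤ) := [(0, 0), (1, 1), (30, -1)]
def v11 : List (ℕ × ℤ) := [(0, 0), (1, 1), (2, 2), (5, 5), (6, -5), (9, -2), (10, -1)]

/-- the parity of a list of values -/
def lp (o : ℕ → Bool) (vl : List (ℕ × ℤ)) : Bool := vl.all fun q => (q.2 % 2 == 1) == o q.1

theorem xor_of {r : ℕ} {vl : List (ℕ × ℤ)} {o : ℕ → Bool} (ho : lp o vl = true) (h1 : o (1 % r) = true)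
    (h2 : o (4226695 % r) = false) {d : Fin 4 → ℕ} (hd0 : d 0 = 1) (hd1 : d 1 = 4226695) {v : Fin 4 → ℤ}
    (hm : ∀ i, (d i % r, v i) ∈ vl) (he : Even (∑ i, v i)) : (o (d 2 % r) != o (d 3 % r)) = true := by
  have key : ∀ i, (v i % 2 = 1 ↔ o (d i % r) = true) := by
    intro i
    have h3 := List.all_eq_true.1 ho _ (hm i)
    rw [beq_iff_eq] at h3
    rw [← h3, beq_iff_eq]
  have k0 := key 0
  have k1 := key 1
  have k2 := key 2
  have k3 := key 3
  rw [hd0, h1] at k0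
  rw [hd1, h2] at k1
  rw [Fin.sum_univ_four, Int.even_iff] at he
  have l0 : v 0 % 2 = 1 := k0.2 rfl
  have l1 : ¬ v 1 % 2 = 1 := fun h => by simpa using k1.1 h
  cases h4 : o (d 2 % r) <;> cases h5 : o (d 3 % r)
  · rw [h4] at k2
    rw [h5] at k3
    have l2 : ¬ v 2 % 2 = 1 := fun h => by simpa using k2.1 h
    have l3 : ¬ v 3 % 2 = 1 := fun h => by simpa using k3.1 h
    omega
  · rfl
  · rfl
  · rw [h4] at k2
    rw [h5] at k3
    have l2 : v 2 % 2 = 1 := k2.2 rfl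
    have l3 : v 3 % 2 = 1 := k3.2 rfl
    omega

/-- different degrees -/
theorem inj_of {d : Fin 4 → ℕ} (h0 : d 0 = 1) (h1 : d 1 = 4226695) (h2 : 2 ≤ d 2) (h3 : 2 ≤ d 3) (h : d 2 ≠ d 3)
    {i : Fin 4} (hi : d i ≠ 4226695) (j : Fin 4) (hj : d j = d i) : j = i := by
  fin_cases i <;> fin_cases j <;> first | rfl | (exfalso; simp at hi hj; omega)

theorem inj_of' {d : Fin 4 → ℕ} (h0 : d 0 = 1) (h1 : d 1 = 4226695) (h2 : 2 ≤ d 2) (h3 : 2 ≤ d 3) (h : d 2 ≠ d 3)
    (h4 : d 2 ≠ 4226695) (h5 : d 3 ≠ 4226695) {i : Fin 4} (j : Fin 4) (hj : d j = d i) : j = i := by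
  fin_cases i <;> fin_cases j <;> first | rfl | (exfalso; simp at hj; omega)

theorem ok_of {d : ℕ} {v w s t : ℤ} (h1 : (d % 67, v) ∈ v67) (h2 : (d % 37, w) ∈ v37) (h3 : (d % 31, s) ∈ v31)
    (h4 : (d % 11, t) ∈ v11) : ok d = true := by
  simp only [v67, v37, v31, v11, List.mem_cons, List.not_mem_nil, or_false, Prod.mk.injEq] at h1 h2 h3 h4
  simp only [ok, Bool.and_eq_true, Bool.or_eq_true, Nat.beq_eq]
  refine ⟨⟨⟨?_, ?_⟩, ?_⟩, ?_⟩
  · clear h2 h3 h4; omega
  · clear h1 h3 h4; omega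
  · clear h1 h2 h4; omega
  · clear h1 h2 h3; omega

/-- the conclusion -/
def fin (b c : ℕ) : Bool :=
  !Nat.beq b 4226695 && !Nat.beq c 4226695 && (Nat.beq ((1 + 4226695 + b + c) % 4) 0 || (Nat.beq (b % 5) 0 && Nat.beq (c % 5) 0))

theorem chk2 : (L.all fun b => L.all fun c => bif par b c then fin b c else true) = true := by
  decide +kernel

theorem mem_L {d : ℕ} (h1 : 2 ≤ d) (hd : d ∣ facProd fac) (h2 : d * d < N) (h : ok d = true) : d ∈ L := by
  have hL : ∀ pa ∈ fac, pa.1.Prime := by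
    intro pa hpa
    simp only [fac, List.mem_cons, List.not_mem_nil, or_false] at hpa
    rcases hpa with rfl | rfl | rfl | rfl | rfl | rfl | rfl <;> norm_num
  have h3 := allDiv_spec hL chk d hd (by rwa [one_mul])
  rw [one_mul] at h3
  have h4 : Nat.ble d 1 = false := by
    rw [Bool.eq_false_iff]
    intro h
    have := Nat.le_of_ble_eq_true h
    omega
  rw [h4, h, cond_false, cond_true, List.any_eq_true] at h3
  obtain ⟨x, hx, h5⟩ := h3
  rw [Nat.eq_of_beq_eq_true h5]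
  exact hx

/-- the values at the element of order 25 -/
theorem no25 {d : Fin 4 → ℕ} {z : Fin 4 → ℤ} (h1 : d 1 = 4226695) (h2 : d 2 % 5 = 0) (h3 : d 3 % 5 = 0) (z0 : z 0 = 1)
    (h8 : ∀ i, (5 : ℤ) ∣ z i - d i) (h6 : ∑ i, z i ^ 2 ≤ 25) : ¬ Even (∑ i, z i) := by
  intro h9
  have q1 : (5 : ℤ) ∣ z 1 := by have := h8 1; omega
  have q2 : (5 : ℤ) ∣ z 2 := by have := h8 2; omega
  have q3 : (5 : ℤ) ∣ z 3 := by have := h8 3; omega
  obtain ⟨m1, hm1⟩ := q1
  obtain ⟨m2, hm2⟩ := q2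
  obtain ⟨m3, hm3⟩ := q3
  rw [Fin.sum_univ_four, z0, hm1, hm2, hm3] at h6 h9
  have s1 := sq_nonneg m1
  have s2 := sq_nonneg m2
  have s3 := sq_nonneg m3
  have n1 : m1 = 0 := by
    have : m1 ^ 2 < 1 := by nlinarith
    nlinarith [abs_nonneg m1, sq_abs m1, Int.one_le_abs (z := m1)]
  have n2 : m2 = 0 := by
    have : m2 ^ 2 < 1 := by nlinarith
    nlinarith [abs_nonneg m2, sq_abs m2]
  have n3 : m3 = 0 := by
    have : m3 ^ 2 < 1 := by nlinarith
    nlinarith [abs_nonneg m3, sq_abs m3]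
  rw [n1, n2, n3] at h9
  exact absurd h9 (by decide)

theorem main {b c : ℕ} (hb : b ∈ L) (hc : c ∈ L) (h : par b c = true) : b ≠ 4226695 ∧ c ≠ 4226695 ∧
    ((1 + 4226695 + b + c) % 4 = 0 ∨ (b % 5 = 0 ∧ c % 5 = 0)) := by
  have h1 := List.all_eq_true.1 (List.all_eq_true.1 chk2 b hb) c hc
  rw [h, cond_true] at h1
  simp only [fin, Bool.and_eq_true, Bool.or_eq_true, Bool.not_eq_true'] at h1
  obtain ⟨⟨h2, h3⟩, h4⟩ := h1
  refine ⟨?_, ?_, ?_⟩
  · rintro rfl
    exact absurd h2 (by decide)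
  · rintro rfl
    exact absurd h3 (by decide)
  · rcases h4 with h4 | ⟨h4, h5⟩
    · exact Or.inl (Nat.eq_of_beq_eq_true h4)
    · exact Or.inr ⟨Nat.eq_of_beq_eq_true h4, Nat.eq_of_beq_eq_true h5⟩

end Cfsg.Agent.H714.Ly.Arith
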