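import Cfsg.Agent.H714.K4.Basic
import Cfsg.Agent.H686.CharKit
import Cfsg.Agent.H921.K4.Uniq
import Cfsg.Agent.H740.K4.Four
import Cfsg.Agent.H299.K4.Const
import Cfsg.Agent.H651.Two.Data
import Cfsg.Agent.Characters.GaloisBasic

/-!
# Exactly four irreducible characters of odd degree and their values (helper714, row Ly of S4947)

* `Cfg F` : the four characters `F i` are the irreducible characters of odd degree; `Cfg.even`, `Cfg.even_val` : the
  sum of their values is even;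
* `val_of_col` : the column of a prime and the value of a Galois invariant character;
* `congr_deg` : `χ x ≡ χ 1` modulo `p` at the elements of `p`-power order;
* `exists_elt` : an element of prime order with the table of the values.
-/

set_option autoImplicit false
set_option linter.unusedSectionVars false

namespace Cfsg.Agent.H714.Ly

open Cfsg Subgroup Cfsg.Agent.Characters Cfsg.Agent.Characters.Core Cfsg.Agent.H714.K4
open Cfsg.Agent.H653.Sieve Cfsg.Agent.H651.Two Cfsg.Agent.H921.K4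
open scoped ComplexConjugate

universe u

variable {G : Type u} [Group G] [Finite G]

theorem even_of_integral {s : ℤ} {α : ℂ} (hα : IsIntegral ℤ α) (h : (s : ℂ) = 2 * α) : Even s := by
  obtain ⟨k, hk⟩ := GaloisBasic.exists_int_of_isIntegral hα
    ⟨(s : ℚ) / 2, by push_cast; linear_combination (-1 / 2 : ℂ) * h⟩
  rw [hk] at h
  have h1 : s = 2 * k := by exact_mod_cast h
  exact ⟨k, by omega⟩

/-- exactly four irreducible characters of odd degree -/
structure Cfg (F : Fin 4 → IrrCharacter G) : Prop where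
  inj : Function.Injective F
  odd : ∀ i, ¬ 2 ∣ charDegree (F i : G → ℂ)
  all : ∀ ψ : IrrCharacter G, ¬ 2 ∣ charDegree (ψ : G → ℂ) → ∃ i, F i = ψ

theorem Cfg.even [Fintype (IrrCharacter G)] {F : Fin 4 → IrrCharacter G} (hF : Cfg F) {f : IrrCharacter G → ℂ}
    (hf : ∀ χ, IsIntegral ℤ (f χ)) (h0 : ∑ χ : IrrCharacter G, f χ * (charDegree (χ : G → ℂ) : ℂ) = 0)
    {z : Fin 4 → ℤ} (hz : ∀ i, f (F i) = z i) : Even (∑ i, z i) := by
  classical
  set O := Finset.univ.filter fun χ : IrrCharacter G => ¬ 2 ∣ charDegree (χ : G → ℂ) with hO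
  have himg : Finset.univ.image F = O := by
    ext ψ
    rw [Finset.mem_image, hO, Finset.mem_filter]
    constructor
    · rintro ⟨i, -, rfl⟩
      exact ⟨Finset.mem_univ _, hF.odd i⟩
    · rintro ⟨-, h⟩
      obtain ⟨i, hi⟩ := hF.all ψ h
      exact ⟨i, Finset.mem_univ _, hi⟩
  have h1 : ∑ χ ∈ O, f χ = ∑ i, (z i : ℂ) := by
    rw [← himg, Finset.sum_image fun i _ j _ h => hF.inj h]
    exact Finset.sum_congr rfl fun i _ => hz i
  have h2 : ∀ χ : IrrCharacter G, f χ * (charDegree (χ : G → ℂ) : ℂ) =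
      2 * (((charDegree (χ : G → ℂ) / 2 : ℕ) : ℂ) * f χ) + (if ¬ 2 ∣ charDegree (χ : G → ℂ) then f χ else 0) := by
    intro χ
    by_cases h : 2 ∣ charDegree (χ : G → ℂ)
    · rw [if_neg (not_not.2 h)]
      obtain ⟨m, hm⟩ := h
      rw [hm, Nat.mul_div_cancel_left m (by norm_num)]
      push_cast
      ring
    · rw [if_pos h]
      obtain ⟨m, hm⟩ : ∃ m, charDegree (χ : G → ℂ) = 2 * m + 1 := ⟨charDegree (χ : G → ℂ) / 2, by omega⟩
      rw [hm, show (2 * m + 1) / 2 = m by omega]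
      push_cast
      ring
  rw [Finset.sum_congr rfl fun χ _ => h2 χ, Finset.sum_add_distrib, ← Finset.mul_sum, ← Finset.sum_filter, ← hO,
    h1] at h0
  refine even_of_integral (α := -∑ χ : IrrCharacter G, ((charDegree (χ : G → ℂ) / 2 : ℕ) : ℂ) * f χ) ?_ ?_
  · refine IsIntegral.neg (IsIntegral.sum _ fun χ _ => IsIntegral.mul ?_ (hf χ))
    exact isIntegral_algebraMap (x := ((charDegree (χ : G → ℂ) / 2 : ℕ) : ℤ))
  · push_cast
    linear_combination h0

/-- the sum of the values at `x ≠ 1` is even -/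
theorem Cfg.even_val {F : Fin 4 → IrrCharacter G} (hF : Cfg F) {x : G} (hx : x ≠ 1) {z : Fin 4 → ℤ}
    (hz : ∀ i, (F i : G → ℂ) x = z i) : Even (∑ i, z i) := by
  classical
  have := finite_irr (G := G)
  let _ := Fintype.ofFinite (IrrCharacter G)
  refine hF.even (f := fun χ => (χ : G → ℂ) x) (fun χ => GaloisBasic.isIntegral_apply (isIrr_isCharacter χ.2) x) ?_ hz
  have hcol := Cfsg.Agent.H686.CharKit.col_orth x (1 : G)
  rw [if_neg (fun h => hx (isConj_one_left.1 h))] at hcol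
  rw [← hcol]
  refine Finset.sum_congr rfl fun χ _ => ?_
  rw [← Cfsg.Agent.H686.CharKit.charDegree_irr χ, Complex.conj_natCast]

/-- a character whose degree is different from the degrees of the others -/
theorem Cfg.uniq {F : Fin 4 → IrrCharacter G} (hF : Cfg F) {i : Fin 4}
    (hd : ∀ j, charDegree (F j : G → ℂ) = charDegree (F i : G → ℂ) → j = i) : Uniq (F i : G → ℂ) where
  irr := (F i).2
  odd := hF.odd i
  uniq := by
    intro ψ hψ h1
    have h3 := Cfsg.Agent.Blocks.Basic.irr_one_eq_charDegree hψ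
    have h4 := Cfsg.Agent.Blocks.Basic.irr_one_eq_charDegree (F i).2
    rw [h3, h4] at h1
    have h5 : charDegree ψ = charDegree (F i : G → ℂ) := by exact_mod_cast h1
    obtain ⟨j, hj⟩ := hF.all ⟨ψ, hψ⟩ (by rw [show charDegree ((⟨ψ, hψ⟩ : IrrCharacter G) : G → ℂ) = charDegree ψ from rfl, h5]; exact hF.odd i)
    have h6 : charDegree (F j : G → ℂ) = charDegree (F i : G → ℂ) := by rw [hj]; exact h5
    rw [hd j h6] at hj
    exact (congrArg Subtype.val hj).symm

theorem Uniq.int {χ : G → ℂ} (h : Uniq χ) (x : G) : ∃ z : ℤ, χ x = z :=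
  GaloisBasic.exists_int_of_rat (isIrr_isCharacter h.irr) x
    ((GaloisBasic.exists_rat_iff (isIrr_isCharacter h.irr) x).2 fun m hm => h.rat m hm x)

/-- the column of a prime and the value of a Galois invariant character -/
theorem val_of_col {p : ℕ} [hp : Fact p.Prime] {P : Sylow p G} (hP : Nat.card P = p) {e t : ℕ} (he : e ≠ 0)
    (het : e * t = p - 1) {W : IrrCharacter G → ℤ} (hW : IsCol (P : Subgroup G) e W) {χ : IrrCharacter G}
    (hinv : ∀ k : ℕ, k.Coprime (Nat.card G) → ∀ g, (χ : G → ℂ) (g ^ k) = (χ : G → ℂ) g) {x : G}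
    (hx : x ∈ (P : Subgroup G)) (hx1 : x ≠ 1) : (t : ℂ) * (χ : G → ℂ) x = W χ := by
  classical
  have := Fintype.ofFinite (P : Subgroup G)
  have hPc : Nat.card (P : Subgroup G) = p := hP
  have hxo : orderOf x = p := by
    have h1 : orderOf x ∣ p := by
      rw [← hPc]
      exact Subgroup.orderOf_dvd_natCard _ hx
    rcases (Nat.dvd_prime hp.out).1 h1 with h | h
    · exact absurd (orderOf_eq_one_iff.1 h) hx1
    · exact h
  have hPe : (P : Subgroup G) = zpowers x :=
    (Subgroup.eq_of_le_of_card_ge (by rwa [zpowers_le]) (by rw [hPc, Nat.card_zpowers, hxo])).symm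
  have h1 := hW χ
  rw [csum_eq_erase] at h1
  have h2 : ∑ y ∈ (Finset.univ : Finset (P : Subgroup G)).erase 1, (χ : G → ℂ) y =
      ∑ _y ∈ (Finset.univ : Finset (P : Subgroup G)).erase 1, (χ : G → ℂ) x := by
    refine Finset.sum_congr rfl fun y hy => ?_
    obtain ⟨k, hk, h3⟩ := H299.K4.Const.exists_coprime hp.out hxo (hPe ▸ y.2 : (y : G) ∈ zpowers x)
      fun h => (Finset.mem_erase.1 hy).1 (Subtype.ext h)
    rw [← h3]
    exact hinv k hk x
  rw [h2, Finset.sum_const, nsmul_eq_mul, Finset.card_erase_of_mem (Finset.mem_univ _), Finset.card_univ,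
    ← Nat.card_eq_fintype_card, hPc, ← het] at h1
  push_cast at h1
  have h3 : (e : ℂ) ≠ 0 := Nat.cast_ne_zero.2 he
  apply mul_left_cancel₀ h3
  linear_combination -h1

/-- the freshman's dream for finite sums -/
theorem exists_sum_pow {R : Type*} [CommRing R] {p : ℕ} (hp : p.Prime) (n : ℕ) {ι : Type*} (s : Finset ι) (f : ι → R) :
    ∃ r, (∑ i ∈ s, f i) ^ p ^ n = ∑ i ∈ s, f i ^ p ^ n + p * r := by
  classical
  induction s using Finset.induction_on with
  | empty => exact ⟨0, by simp [hp.ne_zero]⟩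
  | insert a s ha ih =>
    obtain ⟨r, hr⟩ := ih
    obtain ⟨r', hr'⟩ := exists_add_pow_prime_pow_eq hp (f a) (∑ i ∈ s, f i) n
    refine ⟨r + f a * (∑ i ∈ s, f i) * r', ?_⟩
    rw [Finset.sum_insert ha, Finset.sum_insert ha, hr', hr]
    ring

/-- `χ x ≡ χ 1` modulo `p` at the elements of `p`-power order -/
theorem congr_deg {p k : ℕ} (hp : p.Prime) {χ : G → ℂ} (hχ : IsIrrCharacter G χ) {x : G} (hx : x ^ p ^ k = 1)
    {z : ℤ} (hz : χ x = z) : (p : ℤ) ∣ z - charDegree χ := by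
  classical
  obtain ⟨d, μ, h1, h2, h3⟩ := GaloisBasic.isCharacter_exists_fin_pow (isIrr_isCharacter hχ) x
    (pow_ne_zero k hp.ne_zero) hx
  have hd : charDegree χ = d := Cfsg.Agent.Blocks.Basic.charDegree_of_eq h1
  have hint : ∀ i, IsIntegral ℤ (μ i) := fun i =>
    IsIntegral.of_pow (Nat.pos_of_ne_zero (pow_ne_zero k hp.ne_zero)) (by rw [h2 i]; exact isIntegral_one)
  let ν : Fin d → integralClosure ℤ ℂ := fun i => ⟨μ i, hint i⟩
  obtain ⟨r, hr⟩ := exists_sum_pow hp k Finset.univ ν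
  have h4 := congrArg (fun y : integralClosure ℤ ℂ => (y : ℂ)) hr
  simp only [ν] at h4
  push_cast at h4
  have h5 := h3 1
  simp only [pow_one] at h5
  rw [← h5, hz, Finset.sum_congr rfl fun i _ => h2 i] at h4
  simp only [Finset.sum_const, Finset.card_univ, Fintype.card_fin, nsmul_eq_mul, mul_one] at h4
  have hp0 : (p : ℂ) ≠ 0 := Nat.cast_ne_zero.2 hp.ne_zero
  obtain ⟨m, hm⟩ := GaloisBasic.exists_int_of_isIntegral r.2 ⟨((z : ℚ) ^ p ^ k - d) / p, by
    push_cast
    rw [h4]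
    field_simp
    ring⟩
  rw [hm] at h4
  have h6 : z ^ p ^ k = (d : ℤ) + p * m := by exact_mod_cast h4
  have h7 : (p : ℤ) ∣ z ^ p ^ k - z := by
    have := Fact.mk hp
    rw [← ZMod.intCast_zmod_eq_zero_iff_dvd]
    push_cast
    rw [ZMod.pow_card_pow, sub_self]
  rw [hd]
  have h8 : z - (d : ℤ) = p * m - (z ^ p ^ k - z) := by rw [h6]; ring
  rw [h8]
  exact dvd_sub (dvd_mul_right _ _) h7

/-- the sum of the squares of the values of different characters is at most the order of the centralizer -/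
theorem sum_sq_le {F : Fin 4 → IrrCharacter G} (hinj : Function.Injective F) {x : G} {z : Fin 4 → ℤ}
    (hz : ∀ i, (F i : G → ℂ) x = z i) : ∑ i, z i ^ 2 ≤ Nat.card (centralizer ({x} : Set G)) := by
  classical
  have := finite_irr (G := G)
  let _ := Fintype.ofFinite (IrrCharacter G)
  have hcol := Cfsg.Agent.H686.CharKit.col_orth x x
  rw [if_pos (IsConj.refl x)] at hcol
  have h1 : ∀ χ : IrrCharacter G, (χ : G → ℂ) x * conj ((χ : G → ℂ) x) = ((Complex.normSq ((χ : G → ℂ) x) : ℝ) : ℂ) :=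
    fun χ => Complex.mul_conj _
  rw [Finset.sum_congr rfl fun χ _ => h1 χ, ← Complex.ofReal_sum] at hcol
  have h2 : ∑ χ : IrrCharacter G, Complex.normSq ((χ : G → ℂ) x) = (Nat.card (centralizer ({x} : Set G)) : ℝ) := by
    exact_mod_cast hcol
  have h3 : ∑ i, Complex.normSq ((F i : G → ℂ) x) ≤ ∑ χ : IrrCharacter G, Complex.normSq ((χ : G → ℂ) x) := by
    rw [← Finset.sum_image (s := Finset.univ) (g := F) (f := fun χ : IrrCharacter G => Complex.normSq ((χ : G → ℂ) x))
      fun i _ j _ h => hinj h]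
    exact Finset.sum_le_sum_of_subset_of_nonneg (Finset.subset_univ _) fun χ _ _ => Complex.normSq_nonneg _
  rw [h2] at h3
  have h4 : ∑ i, Complex.normSq ((F i : G → ℂ) x) = ((∑ i, z i ^ 2 : ℤ) : ℝ) := by
    push_cast
    refine Finset.sum_congr rfl fun i _ => ?_
    rw [hz i, Complex.normSq_intCast]
    ring
  rw [h4] at h3
  exact_mod_cast h3

/-- an element of prime order and the table of the values -/
theorem exists_elt [IsSimpleGroup G] (hG : ¬ IsMulCommutative G) {N : ℕ} (hN : Nat.card G = N) {c : CD} (hc : c.Has G)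
    (hok : c.ok N = true) {F : Fin 4 → IrrCharacter G}
    (hF : ∀ i, Uniq (F i : G → ℂ) ∨ c.r ∣ charDegree (F i : G → ℂ)) (vl : List (ℕ × ℤ))
    (hvl : ∀ q ∈ c.wl, ∀ v : ℤ, (c.t : ℤ) * v = q.2 → (q.1, v) ∈ vl) (h0 : ((0 : ℕ), (0 : ℤ)) ∈ vl) :
    ∃ x : G, x ≠ 1 ∧ ∃ v : Fin 4 → ℤ, (∀ i, (F i : G → ℂ) x = v i) ∧
      ∀ i, (charDegree (F i : G → ℂ) % c.r, v i) ∈ vl := by
  classical
  have := finite_irr (G := G)
  let _ := Fintype.ofFinite (IrrCharacter G)
  obtain ⟨hr, x', hx', hcx⟩ := hc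
  have : Fact c.r.Prime := ⟨hr⟩
  obtain ⟨P, W, hP, he, hcol, hW⟩ := exists_col hG hN hx' hcx c.e c.t c.wl c.c c.b hok
  have het : c.e * c.t = c.r - 1 := by
    have h4 := hok
    simp only [CD.ok, numOK, Bool.and_eq_true, beq_iff_eq] at h4
    exact h4.1.1.1.2
  have hd : c.r ^ 1 ∣ Nat.card G ∧ ¬ c.r ^ 2 ∣ Nat.card G := by
    have h4 := hok
    simp only [CD.ok, numOK, Bool.and_eq_true, bne_iff_ne, beq_iff_eq, ne_eq] at h4
    obtain ⟨⟨⟨⟨⟨⟨hp2, hN0⟩, hN1⟩, ht⟩, huniq⟩, hwl⟩, hcnt⟩ := h4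
    rw [hN, pow_one]
    exact ⟨Nat.dvd_of_mod_eq_zero hN0, fun h => hN1 (Nat.mod_eq_zero_of_dvd h)⟩
  obtain ⟨x, hx, hx1⟩ : ∃ x ∈ (P : Subgroup G), x ≠ 1 := by
    by_contra hcon
    push Not at hcon
    have h1 : (P : Subgroup G) = ⊥ := (Subgroup.eq_bot_iff_forall _).2 hcon
    rw [h1, Subgroup.card_bot] at hP
    exact hr.one_lt.ne hP
  have hxo : c.r ∣ orderOf x := by
    have h1 : orderOf x ∣ c.r := by
      have h2 : Nat.card (P : Subgroup G) = c.r := hP
      rw [← h2]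
      exact Subgroup.orderOf_dvd_natCard _ hx
    rcases (Nat.dvd_prime hr).1 h1 with h | h
    · exact absurd (orderOf_eq_one_iff.1 h) hx1
    · rw [h]
  have key : ∀ i, ∃ v : ℤ, (F i : G → ℂ) x = v ∧ (charDegree (F i : G → ℂ) % c.r, v) ∈ vl := by
    intro i
    rcases hF i with h | h
    · obtain ⟨v, hv⟩ := Uniq.int h x
      refine ⟨v, hv, ?_⟩
      have h1 := val_of_col hP he het hcol (χ := F i) h.rat hx hx1
      rw [hv] at h1
      have h2 : (c.t : ℤ) * v = W (F i) := by exact_mod_cast h1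
      exact hvl _ (hW.mem (F i)) v h2
    · refine ⟨0, ?_, ?_⟩
      · rw [Int.cast_zero]
        exact H740.K4.zero_of_dvd hr hd.1 hd.2 (F i).2 (Cfsg.Agent.Blocks.Basic.irr_one_eq_charDegree (F i).2)
          (by rwa [pow_one]) hxo
      · rw [Nat.mod_eq_zero_of_dvd h]
        exact h0
  choose v hv1 hv2 using key
  exact ⟨x, hx1, v, hv1, hv2⟩

end Cfsg.Agent.H714.Ly
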